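import Groth.Agent.RedSub.H368.Final
import Groth.Agent.SGA3x.K20.CExtHopf
import Groth.Agent.Sga3A.Weyl
import Mathlib.Algebra.Polynomial.RingDivision
import Mathlib.RingTheory.Polynomial.UniqueFactorization

/-!
# `SL_2` over any ring is split reductive

* `rp c d h`: the root datum with character group `ℤ`, roots `± c` and coroots `± d`, `c d = 2`;
* `base c d h`: its base;
* `cell R`: `SL_2` over `R` as a pinned group functor with root datum `rp 2 1`;
* `isSplitOfType`, `pinning`.
-/

set_option autoImplicit false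
universe u

open TensorProduct

namespace K918.SL2

section datum

/-- the sign of an index -/
def sg (i : Fin 2) : ℤ := if i = 0 then 1 else -1

@[simp] lemma sg_zero : sg 0 = 1 := rfl
@[simp] lemma sg_one : sg 1 = -1 := rfl

lemma sg_mul_self (i : Fin 2) : sg i * sg i = 1 := by
  fin_cases i <;> rfl

lemma sg_swap (i : Fin 2) : sg (Equiv.swap 0 1 i) = - sg i := by
  fin_cases i <;> rfl

lemma sg_injective : Function.Injective sg := by
  intro i j h
  fin_cases i <;> fin_cases j <;> simp_all [sg]

/-- the root datum with character group `ℤ`, roots `± c` and coroots `± d` -/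
noncomputable def rp (c d : ℤ) (h : c * d = 2) : RootPairing (Fin 2) ℤ ℤ (Module.Dual ℤ ℤ) where
  toLinearMap := Module.Dual.eval ℤ ℤ
  root := ⟨fun i => sg i * c, fun i j hij => sg_injective (by
    have hc : c ≠ 0 := by rintro rfl; simp at h
    exact mul_right_cancel₀ hc hij)⟩
  coroot := ⟨fun i => (sg i * d) • (LinearMap.id : ℤ →ₗ[ℤ] ℤ), fun i j hij => sg_injective (by
    have hd : d ≠ 0 := by rintro rfl; simp at h
    have h1 := LinearMap.congr_fun hij 1
    simp only [LinearMap.smul_apply, LinearMap.id_coe, id_eq, smul_eq_mul] at h1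
    rw [mul_one, mul_one] at h1
    exact mul_right_cancel₀ hd h1)⟩
  root_coroot_two i := by
    change (sg i * d) • (sg i * c) = 2
    rw [smul_eq_mul]
    calc sg i * d * (sg i * c) = (sg i * sg i) * (c * d) := by ring
      _ = 2 := by rw [sg_mul_self, h, one_mul]
  reflectionPerm _ := Equiv.swap 0 1
  reflectionPerm_root i j := by
    change sg j * c - ((sg i * d) • (sg j * c)) • (sg i * c) = sg (Equiv.swap 0 1 j) * c
    rw [sg_swap, smul_eq_mul, smul_eq_mul]
    calc sg j * c - (sg i * d * (sg j * c)) * (sg i * c)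
        = sg j * c - (sg i * sg i) * (c * d) * (sg j * c) := by ring
      _ = - sg j * c := by rw [sg_mul_self, h]; ring
  reflectionPerm_coroot i j := by
    ext
    change (sg j * d) * 1 - (((sg j * d) • (sg i * c)) • ((sg i * d) • (LinearMap.id : ℤ →ₗ[ℤ] ℤ))) 1 =
      (sg (Equiv.swap 0 1 j) * d) * 1
    simp only [LinearMap.smul_apply, LinearMap.id_coe, id_eq, smul_eq_mul, mul_one]
    rw [sg_swap]
    calc sg j * d - (sg j * d * (sg i * c)) * (sg i * d)
        = sg j * d - (sg i * sg i) * (c * d) * (sg j * d) := by ring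
      _ = - sg j * d := by rw [sg_mul_self, h]; ring

variable (c d : ℤ) (h : c * d = 2)

@[simp] lemma rp_root (i : Fin 2) : (rp c d h).root i = sg i * c := rfl
@[simp] lemma rp_coroot (i : Fin 2) (m : ℤ) : (rp c d h).coroot i m = sg i * d * m := by
  change ((sg i * d) • (LinearMap.id : ℤ →ₗ[ℤ] ℤ)) m = _
  simp [mul_assoc]

/-- the base -/
noncomputable def base : (rp c d h).Base where
  support := {0}
  linearIndepOn_root := by
    have hc : c ≠ 0 := by rintro rfl; simp at h
    rw [Finset.coe_singleton, linearIndepOn_singleton_iff]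
    simpa using hc
  linearIndepOn_coroot := by
    have hd : d ≠ 0 := by rintro rfl; simp at h
    rw [Finset.coe_singleton, linearIndepOn_singleton_iff]
    intro h1
    have h2 := LinearMap.congr_fun h1 1
    rw [rp_coroot] at h2
    simp at h2
    exact hd h2
  root_mem_or_neg_mem i := by
    rw [Finset.coe_singleton, Set.image_singleton]
    fin_cases i
    · exact Or.inl (AddSubmonoid.subset_closure rfl)
    · refine Or.inr ?_
      have : -(rp c d h).root 1 = (rp c d h).root 0 := by simp
      exact this ▸ AddSubmonoid.subset_closure rfl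
  coroot_mem_or_neg_mem i := by
    rw [Finset.coe_singleton, Set.image_singleton]
    fin_cases i
    · exact Or.inl (AddSubmonoid.subset_closure rfl)
    · refine Or.inr ?_
      have : -(rp c d h).coroot 1 = (rp c d h).coroot 0 := by
        ext
        rw [LinearMap.neg_apply, rp_coroot, rp_coroot]
        simp
      exact this ▸ AddSubmonoid.subset_closure rfl

lemma isPos_zero : (base c d h).IsPos 0 :=
  (base c d h).isPos_of_mem_support (Finset.mem_singleton_self _)

lemma not_isPos_one : ¬ (base c d h).IsPos 1 := by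
  have hred : (rp c d h).IsReduced := Groth.Agent.Sga3B.PinComb.isReduced (base c d h)
  intro h1
  exact (Groth.Agent.Sga3A.Weyl.isPos_neg_iff (base c d h) 0).1 h1 (isPos_zero c d h)

open Groth.Agent.Sga3B.Cell in
lemma posList_eq : posList (base c d h) = [0] := by
  have h1 := posList_nodup (base c d h)
  have h2 : (posList (base c d h)).Perm [0] := by
    rw [List.perm_ext_iff_of_nodup h1 (List.nodup_singleton 0)]
    intro a
    rw [mem_posList, List.mem_singleton]
    fin_cases a
    · simpa using isPos_zero c d h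
    · simpa using not_isPos_one c d h
  exact List.perm_singleton.1 h2

open Groth.Agent.Sga3B.Cell in
lemma negList_eq : negList (base c d h) = [1] := by
  have h1 := negList_nodup (base c d h)
  have h2 : (negList (base c d h)).Perm [1] := by
    rw [List.perm_ext_iff_of_nodup h1 (List.nodup_singleton 1)]
    intro a
    rw [mem_negList, List.mem_singleton]
    fin_cases a
    · simpa using isPos_zero c d h
    · simpa using not_isPos_one c d h
  exact List.perm_singleton.1 h2

open Groth.Agent.Sga3B.Cell in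
lemma allList_eq : allList (base c d h) = [1, 0] := by
  rw [allList, posList_eq, negList_eq]
  rfl

end datum

section points

open Groth.Agent.Sga3B Groth.Agent.Sga3B.Cell K20.SL2El K20.CExtHopf
open Groth.Agent.RedSub.H368.HopfPts CoordGrp WithConv

variable (R : Type u) [CommRing R]

/-- the group structure on the points -/
@[reducible] noncomputable def ptg : PtGrp R (O R) := ptGrpOfHopf R (O R)

attribute [local instance] ptg

/-- points are matrices -/
noncomputable def me (B : Type u) [CommRing B] [Algebra R B] : Pt R (O R) B ≃* SL B where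
  toFun f := mat f.hom
  invFun m := Pt.mk (pt m)
  left_inv f := pt_mat f.hom
  right_inv m := mat_pt m
  map_mul' f g := by
    have h1 : ∀ i j, (f * g).hom (SLn.X i j) = ∑ l, f.hom (SLn.X i l) * g.hom (SLn.X l j) := by
      intro i j
      have h2 : (f * g).hom (SLn.X i j) = Algebra.TensorProduct.lift f.hom g.hom (fun _ _ => .all ..)
          (CoalgebraStruct.comul (R := R) (SLn.X i j : O R)) := AlgHom.convMul_apply _ _ _
      rw [h2, comul_X, map_sum]
      rfl
    ext i j
    rw [Matrix.SpecialLinearGroup.coe_mul, Matrix.mul_apply]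
    exact h1 i j

lemma me_apply {B : Type u} [CommRing B] [Algebra R B] (f : Pt R (O R) B) (i j : Fin 2) :
    me R B f i j = f.hom (SLn.X i j) := rfl

lemma me_symm_hom {B : Type u} [CommRing B] [Algebra R B] (m : SL B) (i j : Fin 2) :
    ((me R B).symm m).hom (SLn.X i j) = m i j := by
  rw [← me_apply, MulEquiv.apply_symm_apply]

lemma me_map {B C : Type u} [CommRing B] [Algebra R B] [CommRing C] [Algebra R C] (φ : B →ₐ[R] C)
    (f : Pt R (O R) B) : me R C (Pt.map φ f) = smap (φ : B →+* C) (me R B f) := by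
  apply sl_ext <;> rfl

lemma map_me_symm {B C : Type u} [CommRing B] [Algebra R B] [CommRing C] [Algebra R C] (φ : B →ₐ[R] C)
    (m : SL B) : Pt.map φ ((me R B).symm m) = (me R C).symm (smap (φ : B →+* C) m) := by
  apply (me R C).injective
  rw [me_map, MulEquiv.apply_symm_apply, MulEquiv.apply_symm_apply]

/-- elementary matrices -/
def el (i : Fin 2) {B : Type u} [CommRing B] (x : B) : SL B := if i = 0 then xp x else xm x

@[simp] lemma el_zero {B : Type u} [CommRing B] (x : B) : el 0 x = xp x := rfl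
@[simp] lemma el_one {B : Type u} [CommRing B] (x : B) : el 1 x = xm x := rfl

/-- the torus -/
noncomputable def tor (B : Type u) [CommRing B] : TPt ℤ B →* SL B where
  toFun t := hh (t (Multiplicative.ofAdd 1))
  map_one' := hh_one
  map_mul' _ _ := hh_mul _ _

lemma tor_apply (B : Type u) [CommRing B] (t : TPt ℤ B) : tor B t = hh (t (Multiplicative.ofAdd 1)) := rfl

lemma tpt_eq {B : Type u} [CommRing B] (t : TPt ℤ B) (m : ℤ) :
    t (Multiplicative.ofAdd m) = t (Multiplicative.ofAdd 1) ^ m := by
  rw [← map_zpow, ← ofAdd_zsmul, smul_eq_mul, mul_one]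

lemma tpt_ext {B : Type u} [CommRing B] {s t : TPt ℤ B}
    (h : s (Multiplicative.ofAdd 1) = t (Multiplicative.ofAdd 1)) : s = t := by
  refine MonoidHom.ext fun m => ?_
  have h1 := tpt_eq s m.toAdd
  have h2 := tpt_eq t m.toAdd
  rw [ofAdd_toAdd] at h1 h2
  rw [h1, h2, h]

lemma hh_inj {B : Type u} [CommRing B] {s t : Bˣ} (h : hh s = hh t) : s = t := by
  apply Units.ext
  exact congrArg (fun m : SL B => m 0 0) h

instance fp_GLn (n : ℕ) : Algebra.FinitePresentation R (GLn n R) := by
  have h1 : Algebra.FinitePresentation R (GLb n R) :=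
    inferInstanceAs (Algebra.FinitePresentation R (MvPolynomial (GLPoly.Idx n) R))
  exact Algebra.FinitePresentation.quotient (I := GLb.relIdeal n R) ⟨{GLb.rel n R}, by simp [GLb.relIdeal]⟩

instance fp_SLn (n : ℕ) : Algebra.FinitePresentation R (SLn n R) :=
  Algebra.FinitePresentation.quotient (I := GLn.slIdeal n R) ⟨{GLn.slRel n R}, by simp [GLn.slIdeal]⟩

theorem smooth : Algebra.Smooth R (O R) := by
  have hfs : Algebra.FormallySmooth R (O R) := by
    rw [Algebra.FormallySmooth.iff_comp_surjective]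
    intro B _ _ I hI f
    let q : B →ₐ[R] B ⧸ I := Ideal.Quotient.mkₐ R I
    have hq : Function.Surjective q := Ideal.Quotient.mkₐ_surjective R I
    obtain ⟨a, ha⟩ := hq (f (SLn.X 0 0))
    obtain ⟨b, hb⟩ := hq (f (SLn.X 0 1))
    obtain ⟨c, hc⟩ := hq (f (SLn.X 1 0))
    obtain ⟨d, hd⟩ := hq (f (SLn.X 1 1))
    let e := a * d - b * c - 1
    have he : e ∈ I := by
      rw [← Ideal.Quotient.eq_zero_iff_mem]
      change q e = 0
      have h1 := K20.SL2El.det_eq (mat f)
      simp only [mat_apply] at h1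
      rw [map_sub, map_sub, map_mul, map_mul, map_one, ha, hb, hc, hd, h1, sub_self]
    have he2 : e * e = 0 := by
      have : e * e ∈ I ^ 2 := by rw [pow_two]; exact Ideal.mul_mem_mul he he
      rwa [hI, Ideal.mem_bot] at this
    have hqe : q e = 0 := Ideal.Quotient.eq_zero_iff_mem.2 he
    have hdet : (!![a * (1 - e), b * (1 - e); c, d] : Matrix (Fin 2) (Fin 2) B).det = 1 := by
      rw [Matrix.det_fin_two_of]
      have h2 : a * d - b * c = 1 + e := by simp only [e]; ring
      calc a * (1 - e) * d - b * (1 - e) * c = (a * d - b * c) * (1 - e) := by ring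
        _ = 1 - e * e := by rw [h2]; ring
        _ = 1 := by rw [he2, sub_zero]
    refine ⟨pt ⟨_, hdet⟩, ?_⟩
    apply K20.CExtHopf.algHom_ext
    intro i j
    change q (SLn.pt 2 R _ hdet (SLn.X i j)) = f (SLn.X i j)
    rw [SLn.pt_X]
    fin_cases i <;> fin_cases j
    · change q (a * (1 - e)) = _
      rw [map_mul, map_sub, map_one, hqe, sub_zero, mul_one, ha]
      rfl
    · change q (b * (1 - e)) = _
      rw [map_mul, map_sub, map_one, hqe, sub_zero, mul_one, hb]
      rfl
    · exact hc
    · exact hd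
  exact ⟨hfs, inferInstance⟩

theorem isDomain_of (K : Type u) [Field K] [Algebra R K] (Q : Type u) [CommRing Q] [IsDomain Q]
    [Algebra K Q] [Algebra R Q] [IsScalarTower R K Q] (m : SL Q) (ψ : Q →ₐ[K] K ⊗[R] O R)
    (hψ : ∀ i j, ψ (m i j) = 1 ⊗ₜ SLn.X i j) : IsDomain (K ⊗[R] O R) := by
  let φ : K ⊗[R] O R →ₐ[K] Q :=
    Algebra.TensorProduct.lift (Algebra.ofId K Q) (pt (k := R) m) (fun _ _ => Commute.all _ _)
  have hcomp : ψ.comp φ = AlgHom.id K _ := by
    apply Algebra.TensorProduct.ext
    · exact Subsingleton.elim _ _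
    · apply K20.CExtHopf.algHom_ext
      intro i j
      change ψ (φ (1 ⊗ₜ SLn.X i j)) = (1 : K) ⊗ₜ[R] (SLn.X i j : O R)
      have h1 : φ (1 ⊗ₜ SLn.X i j) = m i j := by
        change Algebra.TensorProduct.lift (Algebra.ofId K Q) (pt (k := R) m) _ (1 ⊗ₜ SLn.X i j) = _
        rw [Algebra.TensorProduct.lift_tmul, map_one, one_mul]
        exact SLn.pt_X m.1 m.2 i j
      rw [h1, hψ]
  have hinj : Function.Injective φ := by
    intro a b hab
    have h1 := DFunLike.congr_fun hcomp a
    have h2 := DFunLike.congr_fun hcomp b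
    rw [AlgHom.comp_apply] at h1 h2
    rw [hab, h2] at h1
    exact h1.symm
  exact hinj.isDomain (φ : K ⊗[R] O R →+* Q)

/-- `SL_2` over a field is integral -/
theorem domain (K : Type u) [Field K] [Algebra R K] : IsDomain (K ⊗[R] O R) := by
  let P := MvPolynomial (Fin 3) K
  let f : Polynomial P := Polynomial.C (MvPolynomial.X 0) * Polynomial.X +
    Polynomial.C (-(1 + MvPolynomial.X 1 * MvPolynomial.X 2))
  have hrel : IsRelPrime (MvPolynomial.X 0 : P) (-(1 + MvPolynomial.X 1 * MvPolynomial.X 2)) := by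
    intro g hg1 hg2
    rw [dvd_neg] at hg2
    have hX : Prime (MvPolynomial.X 0 : P) := MvPolynomial.X_prime
    rcases (hX.irreducible.dvd_iff).1 hg1 with h | h
    · exact h
    · exfalso
      have h1 : (MvPolynomial.X 0 : P) ∣ 1 + MvPolynomial.X 1 * MvPolynomial.X 2 :=
        (h.dvd).trans hg2
      let ev : P →ₐ[K] K := MvPolynomial.aeval (fun _ => (0 : K))
      obtain ⟨q, hq⟩ := h1
      have h2 := congrArg ev hq
      rw [map_add, map_mul, map_mul, map_one] at h2
      have h3 : ∀ i, ev (MvPolynomial.X i) = 0 := fun i => MvPolynomial.aeval_X _ i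
      rw [h3, h3, h3, mul_zero, zero_mul, add_zero] at h2
      exact one_ne_zero h2
  have hirr : Irreducible f := Polynomial.irreducible_C_mul_X_add_C (MvPolynomial.X_ne_zero 0) hrel
  have hpr : Prime f := hirr.prime
  let Q := Polynomial P ⧸ Ideal.span {f}
  have hprime : (Ideal.span {f}).IsPrime := (Ideal.span_singleton_prime hpr.ne_zero).2 hpr
  have hQ : IsDomain Q := Ideal.Quotient.isDomain _
  let mkQ : Polynomial P →ₐ[K] Q := Ideal.Quotient.mkₐ K (Ideal.span {f})
  let xx : Fin 3 → Q := fun i => mkQ (Polynomial.C (MvPolynomial.X i))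
  have hf0 : mkQ f = 0 := Ideal.Quotient.eq_zero_iff_mem.2 (Ideal.mem_span_singleton_self f)
  have hdet : (!![xx 0, xx 1; xx 2, mkQ Polynomial.X] : Matrix (Fin 2) (Fin 2) Q).det = 1 := by
    rw [Matrix.det_fin_two_of]
    simp only [f, map_add, map_mul, map_neg, map_one] at hf0
    simp only [xx]
    linear_combination hf0
  let z : Fin 2 → Fin 2 → K ⊗[R] O R := fun i j => 1 ⊗ₜ SLn.X i j
  let zz : Fin 3 → K ⊗[R] O R := fun i => if i = 0 then z 0 0 else if i = 1 then z 0 1 else z 1 0
  let ψ₀ : P →ₐ[K] K ⊗[R] O R := MvPolynomial.aeval zz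
  let ψ₁ : Polynomial P →ₐ[K] K ⊗[R] O R :=
    { Polynomial.eval₂RingHom (ψ₀ : P →+* K ⊗[R] O R) (z 1 1) with
      commutes' := fun r => by
        change Polynomial.eval₂ (ψ₀ : P →+* K ⊗[R] O R) (z 1 1) (algebraMap K (Polynomial P) r) = _
        have : algebraMap K (Polynomial P) r = Polynomial.C (algebraMap K P r) := rfl
        rw [this, Polynomial.eval₂_C]
        exact ψ₀.commutes r }
  have hψ0 : ∀ i, ψ₀ (MvPolynomial.X i) = zz i := fun i => MvPolynomial.aeval_X zz i
  have hψC : ∀ i, ψ₁ (Polynomial.C (MvPolynomial.X i)) = zz i :=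
    fun i => (Polynomial.eval₂_C _ _).trans (hψ0 i)
  have hψX : ψ₁ Polynomial.X = z 1 1 := Polynomial.eval₂_X _ _
  have hz : z 0 0 * z 1 1 - z 0 1 * z 1 0 = 1 := by
    have h1 := K20.SL2El.det_eq (mat (AlgHom.id R (O R)))
    simp only [mat_apply, AlgHom.id_apply] at h1
    simp only [z, Algebra.TensorProduct.tmul_mul_tmul, mul_one, ← TensorProduct.tmul_sub, h1]
    rfl
  have hz0 : zz 0 = z 0 0 := rfl
  have hz1 : zz 1 = z 0 1 := rfl
  have hz2 : zz 2 = z 1 0 := rfl
  have hψf : ψ₁ f = 0 := by
    simp only [f, map_add, map_mul, hψC, hψX, map_neg, map_one, hz0, hz1, hz2]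
    linear_combination hz
  let ψ : Q →ₐ[K] K ⊗[R] O R := Ideal.Quotient.liftₐ (Ideal.span {f}) ψ₁ (by
    intro a ha
    obtain ⟨b, rfl⟩ := Ideal.mem_span_singleton'.mp ha
    rw [map_mul, hψf, mul_zero])
  have hψmk : ∀ a, ψ (mkQ a) = ψ₁ a := fun a => rfl
  refine isDomain_of R K Q ⟨_, hdet⟩ ψ ?_
  intro i j
  fin_cases i <;> fin_cases j
  · exact (hψmk _).trans (hψC 0)
  · exact (hψmk _).trans (hψC 1)
  · exact (hψmk _).trans (hψC 2)
  · exact (hψmk _).trans hψX

/-- the root datum of `SL_2` -/
noncomputable abbrev dat : RootPairing (Fin 2) ℤ ℤ (Module.Dual ℤ ℤ) := rp 2 1 (by norm_num)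

/-- the base of the root datum of `SL_2` -/
noncomputable abbrev bas : dat.Base := base 2 1 (by norm_num)

lemma prod_map_all {G : Type*} [Monoid G] (v : Fin 2 → G) : ((allList bas).map v).prod = v 1 * v 0 := by
  rw [bas, allList_eq]
  simp

lemma prod_map_pos {G : Type*} [Monoid G] (v : Fin 2 → G) : ((posList bas).map v).prod = v 0 := by
  rw [bas, posList_eq]
  simp

lemma prod_map_neg {G : Type*} [Monoid G] (v : Fin 2 → G) : ((negList bas).map v).prod = v 1 := by
  rw [bas, negList_eq]
  simp

lemma cell_entries {B : Type u} [CommRing B] (x y : B) (t : Bˣ) :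
    (xm y * xp x * hh t : SL B) 0 0 = t ∧ (xm y * xp x * hh t : SL B) 0 1 = x * (t⁻¹ : Bˣ) ∧
      (xm y * xp x * hh t : SL B) 1 0 = y * t ∧
      (xm y * xp x * hh t : SL B) 1 1 = (1 + y * x) * (t⁻¹ : Bˣ) := by
  refine ⟨?_, ?_, ?_, ?_⟩ <;>
    simp only [mul00, mul01, mul10, mul11, xm00, xm01, xm10, xm11, xp00, xp01, xp10, xp11, hh00,
      hh01, hh10, hh11] <;> ring

lemma eq_zero_of_mem {a : Fin 2} (ha : a ∈ bas.support) : a = 0 := Finset.mem_singleton.1 ha

lemma rank_one_rel {B : Type u} [CommRing B] (x y : B) (v : Bˣ) (hv : (v : B) = 1 + x * y) :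
    xp x * xm y = xm (((v⁻¹ : Bˣ) : B) * y) * hh v * xp (((v⁻¹ : Bˣ) : B) * x) := by
  have h1 : (v : B) * ((v⁻¹ : Bˣ) : B) = 1 := v.mul_inv
  apply sl_ext <;> simp only [mul00, mul01, mul10, mul11, xm00, xm01, xm10, xm11, xp00, xp01, xp10,
    xp11, hh00, hh01, hh10, hh11]
  · linear_combination -hv
  · linear_combination (-x) * h1
  · linear_combination (-y) * h1
  · linear_combination (-1 - x * y * ((v⁻¹ : Bˣ) : B)) * h1 + ((v⁻¹ : Bˣ) : B) * hv

lemma weyl_eq {B : Type u} [CommRing B] : (xp 1 * xm (-1) * xp 1 : SL B) = w := by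
  apply sl_ext <;> simp only [mul00, mul01, mul10, mul11, xm00, xm01, xm10, xm11, xp00, xp01, xp10,
    xp11, w00, w01, w10, w11] <;> ring

lemma weyl_xp {B : Type u} [CommRing B] (x : B) : w * xp x * w⁻¹ = xm (-x) := by
  rw [mul_inv_eq_iff_eq_mul]
  apply sl_ext <;> simp only [mul00, mul01, mul10, mul11, xm00, xm01, xm10, xm11, xp00, xp01, xp10,
    xp11, w00, w01, w10, w11] <;> ring

lemma weyl_xm {B : Type u} [CommRing B] (x : B) : w * xm x * w⁻¹ = xp (-x) := by
  rw [mul_inv_eq_iff_eq_mul]
  apply sl_ext <;> simp only [mul00, mul01, mul10, mul11, xm00, xm01, xm10, xm11, xp00, xp01, xp10,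
    xp11, w00, w01, w10, w11] <;> ring

lemma tor_cow {B : Type u} [CommRing B] (v : Bˣ) : tor B (TPt.cow (dat.coroot 0) v) = hh v := by
  rw [tor_apply]
  congr 1
  change v ^ (dat.coroot 0 1) = v
  rw [rp_coroot]
  simp

/-- `SL_2` as a pinned group functor -/
noncomputable def cell : PinCell dat bas R (O R) where
  pairing_eq := rfl
  i B _ _ := (me R B).symm.toMonoidHom.comp (tor B)
  i_nat {B C} _ _ _ _ φ t := by
    change Pt.map φ ((me R B).symm (tor B t)) = (me R C).symm (tor C (TPt.map φ t))
    rw [map_me_symm, tor_apply, tor_apply, smap_hh]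
    rfl
  i_inj B _ _ := by
    intro s t hst
    exact tpt_ext (hh_inj ((me R B).symm.injective hst))
  uu a B _ _ x := (me R B).symm (el a x)
  uu_add a {B} _ _ x y := by
    rw [← map_mul]
    congr 1
    fin_cases a
    · exact xp_add x y
    · exact xm_add x y
  uu_nat a {B C} _ _ _ _ φ x := by
    rw [map_me_symm]
    congr 1
    fin_cases a
    · exact smap_xp _ _
    · exact smap_xm _ _
  uu_surj a := by
    rw [← AlgHom.range_eq_top, eq_top_iff, ← Polynomial.adjoin_X, Algebra.adjoin_le_iff,
      Set.singleton_subset_iff]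
    fin_cases a
    · exact ⟨SLn.X 0 1, me_symm_hom R (xp Polynomial.X) 0 1⟩
    · exact ⟨SLn.X 1 0, me_symm_hom R (xm Polynomial.X) 1 0⟩
  rel a {B} _ _ t x := by
    change (me R B).symm (tor B t) * (me R B).symm (el a x) * ((me R B).symm (tor B t))⁻¹ =
      (me R B).symm (el a (TPt.ch (dat.root a) t * x))
    rw [← map_mul, ← map_inv, ← map_mul]
    congr 1
    rw [mul_inv_eq_iff_eq_mul, tor_apply]
    have hch : ∀ m : ℤ, TPt.ch m t = ((t (Multiplicative.ofAdd 1) ^ m : Bˣ) : B) := fun m => by
      rw [← tpt_eq]; rfl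
    rw [hch]
    set v := t (Multiplicative.ofAdd 1)
    fin_cases a
    · change hh v * xp x = xp (((v ^ (2 : ℤ) : Bˣ) : B) * x) * hh v
      apply sl_ext <;> simp only [mul00, mul01, mul10, mul11, xp00, xp01, xp10, xp11, hh00, hh01,
        hh10, hh11, mul_zero, zero_mul, add_zero, zero_add, mul_one, one_mul]
      rw [zpow_two, Units.val_mul]
      linear_combination (-(v : B) * x) * v.mul_inv
    · change hh v * xm x = xm (((v ^ (-2 : ℤ) : Bˣ) : B) * x) * hh v
      apply sl_ext <;> simp only [mul00, mul01, mul10, mul11, xm00, xm01, xm10, xm11, hh00, hh01,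
        hh10, hh11, mul_zero, zero_mul, add_zero, zero_add, mul_one, one_mul]
      rw [zpow_neg, zpow_two, mul_inv, Units.val_mul]
      linear_combination (-((v⁻¹ : Bˣ) : B) * x) * v.mul_inv
  rank1 a ha {B} _ _ x y v hv := by
    obtain rfl := eq_zero_of_mem ha
    change (me R B).symm (xp x) * (me R B).symm (xm y) = (me R B).symm (xm (((v⁻¹ : Bˣ) : B) * y)) *
      (me R B).symm (tor B (TPt.cow (dat.coroot 0) v)) * (me R B).symm (xp (((v⁻¹ : Bˣ) : B) * x))
    rw [← map_mul, ← map_mul, ← map_mul, tor_cow, rank_one_rel x y v hv]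
  comm a ha c hc hac := by
    exact absurd ((eq_zero_of_mem ha).trans (eq_zero_of_mem hc).symm) hac
  conj a ha c := by
    obtain rfl := eq_zero_of_mem ha
    refine ⟨-1, fun {B} _ _ x => ?_⟩
    have h1 : algebraMap R B ((-1 : Rˣ) : R) * x = -x := by
      rw [Units.val_neg, Units.val_one, map_neg, map_one, neg_one_mul]
    rw [h1]
    change (me R B).symm (xp 1) * (me R B).symm (xm (-1)) * (me R B).symm (xp 1) *
      (me R B).symm (el c x) * ((me R B).symm (xp 1) * (me R B).symm (xm (-1)) *
        (me R B).symm (xp 1))⁻¹ = (me R B).symm (el (Equiv.swap 0 1 c) (-x))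
    rw [← map_mul, ← map_mul, weyl_eq, ← map_mul, ← map_inv, ← map_mul]
    congr 1
    fin_cases c
    · exact weyl_xp x
    · exact weyl_xm x
  cell_inj {B} _ _ x x' t t' h := by
    rw [prod_map_all, prod_map_all] at h
    change (me R B).symm (xm (x 1)) * (me R B).symm (xp (x 0)) * (me R B).symm (tor B t) =
      (me R B).symm (xm (x' 1)) * (me R B).symm (xp (x' 0)) * (me R B).symm (tor B t') at h
    rw [← map_mul, ← map_mul, ← map_mul, ← map_mul] at h
    have h' := (me R B).symm.injective h
    rw [tor_apply, tor_apply] at h'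
    obtain ⟨h1, h2, h3, -⟩ := cell_entries (x 0) (x 1) (t (Multiplicative.ofAdd 1))
    obtain ⟨h1', h2', h3', -⟩ := cell_entries (x' 0) (x' 1) (t' (Multiplicative.ofAdd 1))
    rw [h'] at h1 h2 h3
    have e1 : t (Multiplicative.ofAdd 1) = t' (Multiplicative.ofAdd 1) := Units.ext (h1.symm.trans h1')
    have e2 := h2.symm.trans h2'
    have e3 := h3.symm.trans h3'
    rw [e1] at e2 e3
    refine ⟨?_, tpt_ext e1⟩
    funext i
    fin_cases i
    · exact (Units.mul_left_inj _).1 e2
    · exact (Units.mul_left_inj _).1 e3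
  cellIdeal := Ideal.span {SLn.X 0 0}
  cellIdeal_fg := ⟨{SLn.X 0 0}, by simp⟩
  mem_cell_iff {B} _ _ g := by
    have hmap : (Ideal.span {SLn.X 0 0} : Ideal (O R)).map g.hom.toRingHom = ⊤ ↔
        IsUnit (me R B g 0 0) := by
      rw [Ideal.map_span, Set.image_singleton, Ideal.span_singleton_eq_top]
      rfl
    rw [hmap]
    have key : ∀ (x : Fin 2 → B) (t : TPt ℤ B), ((allList bas).map (fun a => (me R B).symm (el a (x a)))).prod *
        (me R B).symm (tor B t) = (me R B).symm (xm (x 1) * xp (x 0) * hh (t (Multiplicative.ofAdd 1))) := by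
      intro x t
      rw [prod_map_all, map_mul, map_mul]
      rfl
    constructor
    · rintro ⟨x, t, hx⟩
      have h1 : g = (me R B).symm (xm (x 1) * xp (x 0) * hh (t (Multiplicative.ofAdd 1))) :=
        hx.trans (key x t)
      rw [h1, MulEquiv.apply_symm_apply, (cell_entries _ _ _).1]
      exact Units.isUnit _
    · rintro ⟨u, hu⟩
      refine ⟨fun i => if i = 0 then me R B g 0 1 * u else me R B g 1 0 * (u⁻¹ : Bˣ),
        zpowersHom Bˣ u, ?_⟩
      refine Eq.trans ?_ (key _ _).symm
      rw [MulEquiv.eq_symm_apply]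
      have h1 : (zpowersHom Bˣ u) (Multiplicative.ofAdd 1) = u := by
        rw [zpowersHom_apply, toAdd_ofAdd, zpow_one]
      rw [h1]
      obtain ⟨e1, e2, e3, e4⟩ := cell_entries (me R B g 0 1 * u) (me R B g 1 0 * ((u⁻¹ : Bˣ) : B)) u
      have hd := K20.SL2El.det_eq (me R B g)
      have hui : (u : B) * ((u⁻¹ : Bˣ) : B) = 1 := u.mul_inv
      apply sl_ext
      · exact hu.symm.trans e1.symm
      · refine Eq.trans ?_ e2.symm
        linear_combination (- me R B g 0 1) * hui
      · refine Eq.trans ?_ e3.symm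
        linear_combination (- me R B g 1 0) * hui
      · refine Eq.trans ?_ e4.symm
        rw [← hu] at hd
        linear_combination (-(me R B g 1 1) - me R B g 1 0 * me R B g 0 1 * ((u⁻¹ : Bˣ) : B)) * hui +
          ((u⁻¹ : Bˣ) : B) * hd
  pos_mul {B} _ _ x y := by
    refine ⟨fun a => x a + y a, ?_, fun _ _ => rfl⟩
    rw [prod_map_pos, prod_map_pos, prod_map_pos, ← map_mul]
    congr 1
    exact (xp_add _ _).symm
  neg_mul {B} _ _ x y := by
    refine ⟨fun a => x a + y a, ?_, fun _ _ => rfl⟩
    rw [prod_map_neg, prod_map_neg, prod_map_neg, ← map_mul]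
    congr 1
    exact (xm_add _ _).symm
  fp := inferInstance
  smooth := smooth R
  domain K _ _ := domain R K

theorem compat : Compat R (O R) := compat_ptGrpOfHopf R (O R)

end points

section scheme

open CategoryTheory AlgebraicGeometry Groth.Agent.Books.AffBridge K20.CExtHopf

attribute [local instance] ptg

variable (R : Type u) [CommRing R]

/-- `SL_2` over `R` is reductive -/
theorem isReductive : Red.IsReductive (SpecOver R (O R)) :=
  Groth.Agent.RedSub.H368.RedSch.isReductive (cell R) (compat R)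

/-- the splitting of `SL_2` -/
noncomputable def splitRed : Red.SplitRed (SpecOver R (O R)) :=
  Groth.Agent.RedSub.H368.Split.splitRed (cell R) (compat R)

/-- the pinning of `SL_2` -/
noncomputable def pinning : Red.Pinning (SpecOver R (O R)) :=
  Groth.Agent.RedSub.H368.Split.pinning (cell R) (compat R)

/-- **`SL_2` over any ring is split reductive with root datum `dat`.** -/
theorem isSplitOfType : Red.IsSplitOfType dat (SpecOver R (O R)) :=
  Groth.Agent.RedSub.H368.Split.isSplitOfType (cell R) (compat R)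

end scheme

end K918.SL2
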