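import Groth.Agent.RedSub.H670.LocStd
import Groth.Agent.RedSub.H661.SixAt
import Groth.Agent.RedSub.H661.Borels
import Groth.Agent.RedSub.H648.BorBc
import Groth.Agent.Sga3B.AdAff
import Groth.Agent.AlgSp.K611.ImmDescent
import Groth.Agent.Sga3B.IsomComb
import Groth.Agent.Sga3B.BorSpan613
import Groth.Agent.Red.K214.TypeUniq
import Groth.Agent.Sga3B.SplitIso848
import Groth.Agent.S3004
import Groth.Agent.S3014

/-!
# Borel subgroups containing the torus of a splitting, over a connected base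

* `exists_factor_of_opens`: factorization through a monomorphism is local on the base;
* `exists_le_of_isStd`: comparison of standard Borel subgroups;
* `exists_base`: over a connected base a Borel subgroup containing the torus of a splitting is
  standard, locally on the base, for one and the same base of the root datum;
* `exists_iso`: two split groups with equivalent root data are isomorphic, compatibly with given Borel
  subgroups containing the tori.
-/

set_option autoImplicit false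

universe u

open CategoryTheory MonoidalCategory CartesianMonoidalCategory MonObj GrpObj AlgebraicGeometry

namespace K918.BorelPair

open Groth.Agent.Sga3B Groth.Agent.Sga3B.Parab Groth.Agent.Sga3B.BorStd991
  Groth.Agent.Sga3B.BorRP478 Groth.Agent.RedSub.H670.LocStd

variable {S : Scheme.{u}}

/-- factorization through a monomorphism is local on the base -/
theorem exists_factor_of_opens {B B₁ G : Over S} (i : B ⟶ G) (i₁ : B₁ ⟶ G) [Mono i₁]
    (h : ∀ s : S, ∃ V : S.Opens, s ∈ V ∧ ∃ v : (Over.pullback V.ι).obj B ⟶ (Over.pullback V.ι).obj B₁,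
      v ≫ (Over.pullback V.ι).map i₁ = (Over.pullback V.ι).map i) : ∃ z : B ⟶ B₁, z ≫ i₁ = i := by
  refine K611.exists_factor_of_local i₁ i fun y => ?_
  obtain ⟨V, hV, v, hv⟩ := h (B.hom y)
  refine ⟨(Over.map V.ι).obj ((Over.pullback V.ι).obj B), (Over.mapPullbackAdj V.ι).counit.app B,
    ?_, ?_, ?_, (Over.map V.ι).map v ≫ (Over.mapPullbackAdj V.ι).counit.app B₁, ?_⟩
  · change Flat (Limits.pullback.fst B.hom V.ι)
    infer_instance
  · change LocallyOfFinitePresentation (Limits.pullback.fst B.hom V.ι)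
    infer_instance
  · change y ∈ Set.range (Limits.pullback.fst B.hom V.ι)
    rw [Scheme.Pullback.range_fst, Scheme.Opens.range_ι]
    exact hV
  · have h1 := (Over.mapPullbackAdj V.ι).counit.naturality i₁
    have h2 := (Over.mapPullbackAdj V.ι).counit.naturality i
    simp only [Functor.comp_map, Functor.id_map] at h1 h2
    rw [Category.assoc, ← h1, ← Category.assoc, ← Functor.map_comp, hv]
    exact h2

section std

variable {G : Over S} [GrpObj G]

/-- comparison of standard Borel subgroups -/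
theorem exists_le_of_isStd {B B₁ : Over S} [GrpObj B] [GrpObj B₁] {iB : B ⟶ G} {iB₁ : B₁ ⟶ G}
    (D : Red.SplitRed G) (b b₁ : D.P.Base) (h : IsStd iB { D with base := b })
    (h₁ : IsStd iB₁ { D with base := b₁ }) (hp : ∀ a, b.IsPos a → b₁.IsPos a) :
    ∃ v : B ⟶ B₁, v ≫ iB₁ = iB := by
  classical
  have hm := h₁.isMonHom
  let F : Submonoid (B ⟶ G) :=
    { carrier := {g | ∃ v : B ⟶ B₁, v ≫ iB₁ = g}
      one_mem' := ⟨1, MonObj.one_comp _⟩
      mul_mem' := by
        rintro _ _ ⟨v, rfl⟩ ⟨w, rfl⟩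
        exact ⟨v * w, MonObj.mul_comp _ _ _⟩ }
  obtain ⟨t, x, hx⟩ := h.univ
  have h2 : iB ∈ F := by
    rw [hx]
    refine F.mul_mem (F.list_prod_mem ?_) ?_
    · intro g hg
      obtain ⟨a, ha, rfl⟩ := List.mem_map.1 hg
      obtain ⟨v, hv⟩ := h₁.root a (hp a ((Cell.mem_posList _).mp ha))
      exact ⟨x a ≫ v, by rw [Category.assoc, hv]⟩
    · obtain ⟨j, hj⟩ := h₁.torus
      exact ⟨t ≫ j, by rw [Category.assoc, hj]⟩
  exact h2

/-- `B` is standard for the base `b`, locally around every point of the base -/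
def LocStd {B : Over S} [GrpObj B] (D : Red.SplitRed G) (i : B ⟶ G) (b : D.P.Base) : Prop :=
  ∀ s : S, ∃ V : S.Opens, s ∈ V ∧ ∀ (S₁ : Scheme.{u}) (c : S₁ ⟶ S), Nonempty S₁ →
    Set.range c ⊆ (V : Set S) → IsStd ((Over.pullback c).map i)
      { SplitBc264.splitBc c D with base := b }

/-- the local version -/
theorem exists_open_base {B : Over S} [GrpObj B] (D : Red.SplitRed G) (i : B ⟶ G)
    (hB : Red.IsBorel i) (t : D.T ⟶ B) (ht : t ≫ i = D.i) (s : S) :
    ∃ (V : S.Opens), s ∈ V ∧ ∃ mu : D.M →+ ℤ, (∀ a, mu (D.P.root a) ≠ 0) ∧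
      ∀ b : D.P.Base, (∀ a, b.IsPos a ↔ 0 < mu (D.P.root a)) →
      ∀ (S₁ : Scheme.{u}) (c : S₁ ⟶ S), Nonempty S₁ →
      Set.range c ⊆ (V : Set S) → IsStd ((Over.pullback c).map i)
        { SplitBc264.splitBc c D with base := b } := by
  obtain ⟨V, hsV, mu, hV⟩ := exists_open_isDynP D i hB t ht s
  have hP : ∀ (S₁ : Scheme.{u}) (c : S₁ ⟶ S), Set.range c ⊆ (V : Set S) →
      IsDynP (coch (SplitBc264.splitBc c D) mu) ((Over.pullback c).map i) := by
    intro S₁ c hc
    rw [BorLB3991.coch_bc]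
    exact hV _ c hc
  refine ⟨V, hsV, mu, ?_, ?_⟩
  · have h1 : Set.range V.ι ⊆ (V : Set S) := by rw [Scheme.Opens.range_ι]
    have h2 := (BorLB3991.isStd_geom (SplitBc264.splitBc V.ι D) mu (RedCover147.isBorel_bc V.ι hB)
      (hP _ V.ι h1) ⟨s, hsV⟩).1
    exact h2
  · intro b hb S₁ c _ hc
    exact BorLB3991.isStd_of_base (SplitBc264.splitBc c D) mu (hP _ c hc)
      (BorLB3991.isCentralizerOf_of_isBorel (SplitBc264.splitBc c D) mu
        (Groth.Agent.RedSub.H648.BorBc.isBorel_bc c D.reductive hB) (hP _ c hc)) b hb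

lemma isPos_iff_of_isStd {B : Over S} [GrpObj B] (D : Red.SplitRed G) (i : B ⟶ G) (s : S)
    (b b₁ : D.P.Base)
    (h : IsStd ((Over.pullback (Red.geomPt s)).map i)
      { SplitBc264.splitBc (Red.geomPt s) D with base := b })
    (h₁ : IsStd ((Over.pullback (Red.geomPt s)).map i)
      { SplitBc264.splitBc (Red.geomPt s) D with base := b₁ }) (a : D.idx) :
    b.IsPos a ↔ b₁.IsPos a := by
  rw [← exists_factor_iff (Red.geomPt s) D i b h a, exists_factor_iff (Red.geomPt s) D i b₁ h₁ a]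

/-- **Over a connected base, a Borel subgroup containing the torus of a splitting is standard (locally
on the base) for one and the same base of the root datum.** -/
theorem exists_base [ConnectedSpace S] {B : Over S} [GrpObj B] (D : Red.SplitRed G) (i : B ⟶ G)
    (hB : Red.IsBorel i) (t : D.T ⟶ B) (ht : t ≫ i = D.i) : ∃ b : D.P.Base, LocStd D i b := by
  have hred : D.P.IsReduced := SplitReduced415.isReduced D
  choose V hV mu hmu hstd using exists_open_base D i hB t ht
  choose b hb using fun s => BaseZ.exists_base_isPos D.P (mu s) (hmu s)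
  let f : S → Set D.idx := fun s => {a | 0 < mu s (D.P.root a)}
  have hgr : ∀ (x : S) (W : S.Opens), x ∈ W → Set.range (Red.geomPt x) ⊆ (W : Set S) := by
    intro x W hx
    rw [AdAff.range_geomPt]
    exact Set.singleton_subset_iff.2 hx
  have hf : IsLocallyConstant f := by
    rw [IsLocallyConstant.iff_exists_open]
    intro s
    refine ⟨V s, (V s).2, hV s, fun x hx => ?_⟩
    ext a
    change 0 < mu x (D.P.root a) ↔ 0 < mu s (D.P.root a)
    rw [← hb x a, ← hb s a]
    exact isPos_iff_of_isStd D i x (b x) (b s)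
      (hstd x (b x) (hb x) _ (Red.geomPt x) inferInstance (hgr x _ (hV x)))
      (hstd s (b s) (hb s) _ (Red.geomPt x) inferInstance (hgr x _ hx)) a
  obtain ⟨s₀⟩ : Nonempty S := inferInstance
  refine ⟨b s₀, fun s => ⟨V s, hV s, ?_⟩⟩
  refine hstd s (b s₀) fun a => ?_
  have h1 := hf.apply_eq_of_isPreconnected (isPreconnected_univ) (Set.mem_univ s₀) (Set.mem_univ s)
  rw [hb s₀ a]
  exact Set.ext_iff.1 h1 a

/-- Comparison of Borel subgroups with comparable bases. -/
theorem exists_le_of_locStd {B B₁ : Over S} [GrpObj B] [GrpObj B₁] (D : Red.SplitRed G)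
    {i : B ⟶ G} {i₁ : B₁ ⟶ G} [Mono i₁] {b b₁ : D.P.Base} (h : LocStd D i b)
    (h₁ : LocStd D i₁ b₁) (hp : ∀ a, b.IsPos a → b₁.IsPos a) : ∃ v : B ⟶ B₁, v ≫ i₁ = i := by
  refine exists_factor_of_opens i i₁ fun s => ?_
  obtain ⟨V, hV, hV'⟩ := h s
  obtain ⟨V₁, hV₁, hV₁'⟩ := h₁ s
  have hr : Set.range (V ⊓ V₁).ι ⊆ ((V ⊓ V₁ : S.Opens) : Set S) := by rw [Scheme.Opens.range_ι]
  have hne : Nonempty ((V ⊓ V₁ : S.Opens) : Scheme.{u}) := ⟨⟨s, hV, hV₁⟩⟩
  refine ⟨V ⊓ V₁, ⟨hV, hV₁⟩, ?_⟩
  exact exists_le_of_isStd (SplitBc264.splitBc (V ⊓ V₁).ι D) b b₁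
    (hV' _ _ hne (hr.trans fun x hx => hx.1)) (hV₁' _ _ hne (hr.trans fun x hx => hx.2)) hp

end std

/-- the isomorphism of tori induced by an equivalence of root data -/
noncomputable def torIso {G G' : Over S} [GrpObj G] [GrpObj G'] (D : Red.SplitRed G)
    (D' : Red.SplitRed G') (h : RootPairing.Equiv D'.P D.P) : D.T ≅ D'.T where
  hom := D.split.hom.hom.hom ≫ Red.DSmap S h.weightMap.toAddMonoidHom ≫ D'.split.inv.hom.hom
  inv := D'.split.hom.hom.hom ≫
    Red.DSmap S (RootPairing.Equiv.weightEquiv _ _ h).symm.toLinearMap.toAddMonoidHom ≫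
      D.split.inv.hom.hom
  hom_inv_id := by
    have h1 : D'.split.inv.hom.hom ≫ D'.split.hom.hom.hom = 𝟙 _ := by
      rw [← Grp.comp_hom_hom, D'.split.inv_hom_id]; rfl
    have h2 : D.split.hom.hom.hom ≫ D.split.inv.hom.hom = 𝟙 _ := by
      rw [← Grp.comp_hom_hom, D.split.hom_inv_id]; rfl
    have h3 : Red.DSmap S h.weightMap.toAddMonoidHom ≫
        Red.DSmap S (RootPairing.Equiv.weightEquiv _ _ h).symm.toLinearMap.toAddMonoidHom = 𝟙 _ := by
      rw [BorSpan613.DSmap_comp_DSmap, ← BorSpan613.DSmap_id]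
      congr 1
      ext m
      exact (RootPairing.Equiv.weightEquiv _ _ h).apply_symm_apply m
    simp only [Category.assoc]
    rw [reassoc_of% h1, reassoc_of% h3, h2]
  inv_hom_id := by
    have h1 : D.split.inv.hom.hom ≫ D.split.hom.hom.hom = 𝟙 _ := by
      rw [← Grp.comp_hom_hom, D.split.inv_hom_id]; rfl
    have h2 : D'.split.hom.hom.hom ≫ D'.split.inv.hom.hom = 𝟙 _ := by
      rw [← Grp.comp_hom_hom, D'.split.hom_inv_id]; rfl
    have h3 : Red.DSmap S (RootPairing.Equiv.weightEquiv _ _ h).symm.toLinearMap.toAddMonoidHom ≫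
        Red.DSmap S h.weightMap.toAddMonoidHom = 𝟙 _ := by
      rw [BorSpan613.DSmap_comp_DSmap, ← BorSpan613.DSmap_id]
      congr 1
      ext m
      exact (RootPairing.Equiv.weightEquiv _ _ h).symm_apply_apply m
    simp only [Category.assoc]
    rw [reassoc_of% h1, reassoc_of% h3, h2]

/-- **Isomorphism of pairs and triples**, from an equivalence of root data. -/
theorem exists_iso [ConnectedSpace S] {G G' B B' : Over S} [GrpObj G] [GrpObj G'] [GrpObj B]
    [GrpObj B'] (D : Red.SplitRed G) (D' : Red.SplitRed G') (h₀ : RootPairing.Equiv D'.P D.P)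
    (i : B ⟶ G) (hB : Red.IsBorel i) (t : D.T ⟶ B) (ht : t ≫ i = D.i)
    (i' : B' ⟶ G') (hB' : Red.IsBorel i') (t' : D'.T ⟶ B') (ht' : t' ≫ i' = D'.i) :
    ∃ (e : Grp.mk G ≅ Grp.mk G') (eT : D.T ≅ D'.T) (eB : B ≅ B'),
      eT.hom ≫ D'.i = D.i ≫ e.hom.hom.hom ∧ eB.hom ≫ i' = i ≫ e.hom.hom.hom := by
  have hne : Nonempty S := inferInstance
  have hred : D'.P.IsReduced := SplitReduced415.isReduced D'
  obtain ⟨b, hb⟩ := exists_base D i hB t ht
  obtain ⟨b', hb'⟩ := exists_base D' i' hB' t' ht'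
  obtain ⟨w, -, hw⟩ := IsomComb.exists_match h₀ b' b
  let h : RootPairing.Equiv D'.P D.P := RootPairing.Equiv.comp h₀ w
  have hΔ : ∀ a', a' ∈ b'.support ↔ h.indexEquiv a' ∈ b.support := hw
  obtain ⟨f, ⟨hf1, hf2, hf3⟩, -⟩ := Groth.Agent.S3004.result S G G' { D with base := b }
    { D' with base := b' } h hΔ
  let e : Grp.mk G ≅ Grp.mk G' := Grp.mkIso' f
  have he : e.hom.hom.hom = f.hom := rfl
  let τ := torIso D D' h
  have hτ : τ.hom ≫ D'.i = D.i ≫ f.hom := by
    refine Eq.trans ?_ hf2.symm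
    change (D.split.hom.hom.hom ≫ Red.DSmap S h.weightMap.toAddMonoidHom ≫
      D'.split.inv.hom.hom) ≫ D'.i = _
    simp only [Category.assoc]
  -- the image of `B`
  have hB2 : Red.IsBorel (i ≫ e.hom.hom.hom) := Groth.Agent.RedSub.H661.SixAt.isBorel_comp_iso hB e
  obtain ⟨b2, hb2⟩ := exists_base D' (i ≫ e.hom.hom.hom) hB2 (τ.inv ≫ t) (by
    rw [he, Category.assoc, reassoc_of% ht, ← hτ, Iso.inv_hom_id_assoc])
  have hsimple : ∀ a' ∈ b'.support, b2.IsPos a' := by
    intro a' ha'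
    obtain ⟨s⟩ := hne
    obtain ⟨V, hV, hV'⟩ := hb s
    obtain ⟨V2, hV2, hV2'⟩ := hb2 s
    have hgr : ∀ (W : S.Opens), s ∈ W → Set.range (Red.geomPt s) ⊆ (W : Set S) := by
      intro W hx
      rw [AdAff.range_geomPt]
      exact Set.singleton_subset_iff.2 hx
    have h1 := hV' _ (Red.geomPt s) inferInstance (hgr V hV)
    have h2 := hV2' _ (Red.geomPt s) inferInstance (hgr V2 hV2)
    rw [← exists_factor_iff (Red.geomPt s) D' (i ≫ e.hom.hom.hom) b2 h2 a']
    obtain ⟨v, hv⟩ := (exists_factor_iff (Red.geomPt s) D i b h1 (h.indexEquiv a')).2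
      (b.isPos_of_mem_support ((hΔ a').1 ha'))
    refine ⟨v, ?_⟩
    rw [Functor.map_comp, reassoc_of% hv, ← Functor.map_comp, he]
    congr 1
    exact hf3 a' ha'
  have hpos : ∀ a', b'.IsPos a' → b2.IsPos a' := by
    intro a' ha'
    have := Groth.Agent.Sga3A.Weyl.isPos_smul_of_simple b' b2 1 (fun j hj => by
      rw [one_smul]; exact hsimple j hj) ha'
    rwa [one_smul] at this
  have hm2 : Mono (i ≫ e.hom.hom.hom) := mono_of_isBorel hB2
  obtain ⟨v, hv⟩ := exists_le_of_locStd D' hb' hb2 hpos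
  have hiso : IsIso v := Groth.Agent.RedSub.H661.Borels.isIso_of_isBorel hB' hB2 v hv
  refine ⟨e, τ, (asIso v).symm, hτ, ?_⟩
  rw [← hv, Iso.symm_hom, asIso_inv, IsIso.inv_hom_id_assoc]

/-- **Isomorphism of pairs**, from an equivalence of root data. -/
theorem exists_iso_pair [Nonempty S] {G G' : Over S} [GrpObj G] [GrpObj G']
    (D : Red.SplitRed G) (D' : Red.SplitRed G') (h : RootPairing.Equiv D'.P D.P) :
    ∃ (e : Grp.mk G ≅ Grp.mk G') (eT : D.T ≅ D'.T), eT.hom ≫ D'.i = D.i ≫ e.hom.hom.hom := by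
  have hred : D.P.IsReduced := SplitReduced415.isReduced D
  obtain ⟨b⟩ := BaseZ.nonempty_base D.P
  obtain ⟨f, ⟨hf1, hf2, hf3⟩, -⟩ := Groth.Agent.S3004.result S G G' { D with base := b }
    { D' with base := BaseZ.comapBase h b } h (BaseZ.mem_comapBase_support h b)
  refine ⟨Grp.mkIso' f, torIso D D' h, ?_⟩
  refine Eq.trans ?_ hf2.symm
  change (D.split.hom.hom.hom ≫ Red.DSmap S h.weightMap.toAddMonoidHom ≫
    D'.split.inv.hom.hom) ≫ D'.i = _
  simp only [Category.assoc]

/-- Split reductive groups with isomorphic base changes under a surjective morphism to a nonempty scheme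
have equivalent root data. -/
theorem exists_equiv [Nonempty S] {G G' : Over S} [GrpObj G] [GrpObj G']
    (D : Red.SplitRed G) (D' : Red.SplitRed G') {S₁ : Scheme.{u}} (f : S₁ ⟶ S) [Surjective f]
    (h : Nonempty (Grp.mk (Red.bc f G) ≅ Grp.mk (Red.bc f G'))) :
    Nonempty (RootPairing.Equiv D'.P D.P) := by
  obtain ⟨s⟩ := ‹Nonempty S›
  obtain ⟨e⟩ := Groth.Agent.S3014.result S G G' D.reductive D'.reductive S₁ f h s
  have := K214.TypeUniq.nonempty_equiv
    (SplitIso848.splitOfIso e.symm (SplitBc264.splitBc (Red.geomPt s) D'))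
    (SplitBc264.splitBc (Red.geomPt s) D)
  exact this

end K918.BorelPair
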