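import Groth.Agent.Red.K918.SL2
import Groth.Agent.Sga3B.IsomComb
import Groth.Agent.Sga3B.SplitFin885
import Groth.Agent.Sga3B.SplitIso848
import Groth.Agent.Sga3B.SplitBc264
import Groth.Agent.Sga3B.SplitBc264b
import Groth.Agent.Sga3B.IsomPin848
import Groth.Agent.Sga3B.Parab.TorRank156
import Groth.Agent.Sga3B.AdAff
import Groth.Agent.S2962
import Groth.Agent.S3005
import Groth.Agent.S8103
import Groth.Agent.AGF.K501.WeylChar

/-!
# Split reductive groups with a torus of rank one
-/

set_option autoImplicit false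
universe u

open CategoryTheory MonoidalCategory CartesianMonoidalCategory MonObj GrpObj AlgebraicGeometry

namespace K918.RankOne

open Groth.Agent.Sga3B K918.SL2

section comb

variable {idx M : Type} [Fintype idx] [AddCommGroup M]

/-- The root datum of `SL_2` is characterised by: the lattice is `ℤ`, there are two roots and they are
not generators. -/
theorem nonempty_equiv (P : RootPairing idx ℤ M (Module.Dual ℤ M))
    (hP : P.toLinearMap = Module.Dual.eval ℤ M) (hcard : Fintype.card idx = 2) (θ : M ≃ₗ[ℤ] ℤ)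
    (hroot : ∀ a, ¬ IsUnit (θ (P.root a))) : Nonempty (RootPairing.Equiv P dat) := by
  classical
  have hco : ∀ a m, P.coroot a m = P.coroot a (θ.symm 1) * θ m := by
    intro a m
    have h1 : m = θ m • θ.symm 1 := by
      apply θ.injective
      rw [map_smul, LinearEquiv.apply_symm_apply, smul_eq_mul, _root_.mul_one]
    conv_lhs => rw [h1]
    rw [map_smul, smul_eq_mul, mul_comm]
  have h2 : ∀ a, P.coroot a (θ.symm 1) * θ (P.root a) = 2 := by
    intro a
    rw [← hco]
    have := P.root_coroot_two a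
    rw [hP] at this
    exact this
  have hval : ∀ a, (θ (P.root a) = 2 ∧ P.coroot a (θ.symm 1) = 1) ∨
      (θ (P.root a) = -2 ∧ P.coroot a (θ.symm 1) = -1) := by
    intro a
    have h3 : θ (P.root a) ∣ 2 := ⟨_, by rw [mul_comm]; exact (h2 a).symm⟩
    have h4 : (θ (P.root a)).natAbs ∣ 2 := by
      rw [← Int.natAbs_dvd_natAbs] at h3
      exact h3
    have h5 : (θ (P.root a)).natAbs ≠ 1 := fun h => hroot a (Int.isUnit_iff_natAbs_eq.2 h)
    have h6 : (θ (P.root a)).natAbs = 2 := by
      rcases (Nat.dvd_prime Nat.prime_two).1 h4 with h | h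
      · exact absurd h h5
      · exact h
    have h7 := h2 a
    rcases Int.natAbs_eq (θ (P.root a)) with h | h
    · left
      rw [h6] at h
      push_cast at h
      refine ⟨h, ?_⟩
      rw [h] at h7
      omega
    · right
      rw [h6] at h
      push_cast at h
      refine ⟨h, ?_⟩
      rw [h] at h7
      omega
  have hne : Nonempty idx := by
    rw [← Fintype.card_pos_iff, hcard]
    norm_num
  obtain ⟨a⟩ := hne
  -- a root with value `2`
  obtain ⟨a0, ha0⟩ : ∃ a0, θ (P.root a0) = 2 ∧ P.coroot a0 (θ.symm 1) = 1 := by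
    rcases hval a with h | h
    · exact ⟨a, h⟩
    · refine ⟨P.reflectionPerm a a, ?_⟩
      have h8 : P.root (P.reflectionPerm a a) = - P.root a := by
        rw [P.root_reflectionPerm, P.reflection_apply_self]
      rcases hval (P.reflectionPerm a a) with h9 | h9
      · exact h9
      · rw [h8, map_neg, h.1] at h9
        norm_num at h9
  let a1 := P.reflectionPerm a0 a0
  have h8 : P.root a1 = - P.root a0 := by
    rw [P.root_reflectionPerm, P.reflection_apply_self]
  have ha1 : θ (P.root a1) = -2 ∧ P.coroot a1 (θ.symm 1) = -1 := by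
    rcases hval a1 with h9 | h9
    · rw [h8, map_neg, ha0.1] at h9
      norm_num at h9
    · exact h9
  have hne : a0 ≠ a1 := by
    intro h
    have := ha0.1
    rw [h, ha1.1] at this
    norm_num at this
  let e₀ : Fin 2 → idx := fun i => if i = 0 then a0 else a1
  have hinj : Function.Injective e₀ := by
    intro i j hij
    fin_cases i <;> fin_cases j
    · rfl
    · exact absurd hij hne
    · exact absurd hij.symm hne
    · rfl
  have hbij : Function.Bijective e₀ := by
    rw [Fintype.bijective_iff_injective_and_card]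
    exact ⟨hinj, by rw [hcard, Fintype.card_fin]⟩
  let e : Fin 2 ≃ idx := Equiv.ofBijective e₀ hbij
  refine ⟨RootPairing.Equiv.symm _ _ (IsomComb.mkEquiv (P := P) (Q := dat) hP rfl θ.symm e ?_ ?_)⟩
  · intro i
    rw [LinearEquiv.symm_apply_eq]
    fin_cases i
    · exact ha0.1.symm
    · exact ha1.1.symm
  · intro i m
    rw [hco, LinearEquiv.apply_symm_apply, rp_coroot]
    fin_cases i
    · change P.coroot a0 (θ.symm 1) * m = 1 * 1 * m
      rw [ha0.2, _root_.one_mul, _root_.one_mul, _root_.one_mul]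
    · change P.coroot a1 (θ.symm 1) * m = -1 * 1 * m
      rw [ha1.2, _root_.mul_one]

end comb

section geom

variable {K : Type u} [Field K]

/-- If the centre of a split group is `μ_2` and the lattice is `ℤ`, the roots are not generators. -/
theorem not_isUnit_root {H : Over (Spec (CommRingCat.of K))} [GrpObj H] (E : Red.SplitRed H)
    (θ : E.M ≃ₗ[ℤ] ℤ) {Z : Over (Spec (CommRingCat.of K))} [GrpObj Z] (z : Z ⟶ H)
    (hz : Red.IsCentre z)
    (hZ : Nonempty (Grp.mk Z ≅ Grp.mk (Red.DS (Spec (CommRingCat.of K)) (ZMod 2)))) (a : E.idx) :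
    ¬ IsUnit (θ (E.P.root a)) := by
  intro hu
  obtain ⟨ε⟩ := hZ
  have hzm : IsMonHom z := hz.1
  have hzmono : Mono z := hz.2.1
  -- the universal central point is trivial
  have h1 : ∀ (X' : Over (Spec (CommRingCat.of K))) (x : X' ⟶ Z) (h : X' ⟶ H),
      (x ≫ z) * h = h * (x ≫ z) := by
    intro X' x h
    have := (hz.2.2 Z z).1 ⟨𝟙 Z, Category.id_comp z⟩ X' x h
    simpa using this
  obtain ⟨t, ht, ht'⟩ := (Groth.Agent.S2962.result E Z z).1 h1
  have h2 : t = 1 := by
    have hinv : IsIso E.split.hom.hom.hom := by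
      refine ⟨E.split.inv.hom.hom, ?_, ?_⟩
      · rw [← Grp.comp_hom_hom, E.split.hom_inv_id]; rfl
      · rw [← Grp.comp_hom_hom, E.split.inv_hom_id]; rfl
    let f : E.T ⟶ Red.DS (Spec (CommRingCat.of K)) E.M := E.split.hom.hom.hom
    have hmon : IsMonHom f := E.split.hom.hom.isMonHom_hom
    have hmo : Mono f := inferInstanceAs (Mono E.split.hom.hom.hom)
    rw [← cancel_mono f]
    have hone : (1 : Z ⟶ E.T) ≫ f = 1 := MonObj.one_comp f
    rw [hone]
    have h3 : ∀ m : E.M, ∃ n : ℤ, m = n • E.P.root a := by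
      intro m
      rcases Int.isUnit_iff.1 hu with h | h
      · exact ⟨θ m, θ.injective (by rw [map_smul, h, smul_eq_mul, _root_.mul_one])⟩
      · exact ⟨-θ m, θ.injective (by rw [map_smul, h, smul_eq_mul]; ring)⟩
    have h4 := (Groth.Agent.Sga3B.AdCentre.dsChar_chi (t ≫ E.split.hom.hom.hom) (E.P.root a)).1 (by
      rw [Category.assoc]; exact ht' a)
    apply (DSPts.dsEquiv Z E.M).symm.injective
    change DSPts.dsChar _ = DSPts.dsChar _
    have h0 : DSPts.dsChar (1 : Z ⟶ Red.DS (Spec (CommRingCat.of K)) E.M) = 1 := by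
      simp [DSPts.dsChar]
    rw [h0]
    refine MonoidHom.ext fun m => ?_
    obtain ⟨n, hn⟩ := h3 m.toAdd
    have h5 : m = (Multiplicative.ofAdd (E.P.root a)) ^ n := by
      rw [← ofAdd_zsmul, ← hn, ofAdd_toAdd]
    have h6 : (Multiplicative.ofAdd (E.P.root a)) ∈
        (DSPts.dsChar (t ≫ E.split.hom.hom.hom)).ker := h4
    have h7 := Subgroup.zpow_mem _ h6 n
    rw [← h5] at h7
    exact h7
  have h3 : z = 1 := by rw [← ht, h2, MonObj.one_comp]
  have h4 : 𝟙 (Red.DS (Spec (CommRingCat.of K)) (ZMod 2)) = 1 := by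
    have hinv : Mono ε.inv.hom.hom := by
      have : IsIso ε.inv.hom.hom := by
        refine ⟨ε.hom.hom.hom, ?_, ?_⟩
        · rw [← Grp.comp_hom_hom, ε.inv_hom_id]; rfl
        · rw [← Grp.comp_hom_hom, ε.hom_inv_id]; rfl
      infer_instance
    rw [← cancel_mono ε.inv.hom.hom, ← cancel_mono z, h3, MonObj.comp_one, MonObj.comp_one]
  have h5 : Red.chi (Spec (CommRingCat.of K)) (1 : ZMod 2) = Red.chi (Spec (CommRingCat.of K)) 0 := by
    rw [K501.WeylChar.chi_zero, ← Category.id_comp (Red.chi (Spec (CommRingCat.of K)) (1 : ZMod 2)), h4]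
    refine (Groth.Agent.Sga3B.AdCentre.dsChar_chi _ _).2 ?_
    have h0 : DSPts.dsChar (1 : Red.DS (Spec (CommRingCat.of K)) (ZMod 2) ⟶
        Red.DS (Spec (CommRingCat.of K)) (ZMod 2)) = 1 := by
      simp [DSPts.dsChar]
    rw [h0]
    rfl
  have h6 := Groth.Agent.S8103.chi_injective h5
  exact absurd h6 (by decide)

end geom

/-- **Split reductive groups of rank one, dimension three with centre `μ_2` are Zariski-locally
`SL_2`.** -/
theorem main {S : Scheme.{u}} {G T : Over S} [GrpObj G] [GrpObj T]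
    (hG : Red.IsReductive G) (i : T ⟶ G) (hT : Red.IsMaximalTorus i) (hspl : Red.IsSplitTorusWith ℤ T)
    (s : S) (hdim : topologicalKrullDim ↥(Red.geomFibre s G).left = 3)
    (hZ : ∃ (Z : Over (Spec (CommRingCat.of (AlgebraicClosure (S.residueField s))))) (_ : GrpObj Z)
      (z : Z ⟶ Red.geomFibre s G), Red.IsCentre z ∧
        Nonempty (Grp.mk Z ≅
          Grp.mk (Red.DS (Spec (CommRingCat.of (AlgebraicClosure (S.residueField s)))) (ZMod 2)))) :
    ∃ (R : CommRingCat.{u}) (u : Spec R ⟶ S), IsOpenImmersion u ∧ s ∈ Set.range u.base ∧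
      Nonempty (Grp.mk (Red.bc u G) ≅
        Grp.mk (Groth.Agent.Books.AffBridge.SpecOver R (CoordGrp.SLn 2 R))) := by
  obtain ⟨e₀⟩ := hspl
  obtain ⟨R, v, hv, hs, D, τ, -, -⟩ := SplitFin885.splitTRed hG i hT e₀ s
  refine ⟨R, v, hv, hs, ?_⟩
  have hs' := hs
  obtain ⟨x, hx⟩ := hs'
  have hft : LocallyOfFiniteType G.hom := by
    have : Smooth G.hom := hG.2.1
    infer_instance
  -- the geometric point over `s`
  have hr : Set.range (Red.geomPt s) ⊆ Set.range v := by
    rw [AdAff.range_geomPt]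
    exact Set.singleton_subset_iff.2 hs
  let w : Spec (CommRingCat.of (AlgebraicClosure (S.residueField s))) ⟶ Spec R :=
    IsOpenImmersion.lift v (Red.geomPt s) hr
  have hw : w ≫ v = Red.geomPt s := IsOpenImmersion.lift_fac v _ _
  let E : Red.SplitRed (Red.geomFibre s G) := SplitIso848.splitOfIso
    ((BcIso.bcCompIso w v G).symm ≪≫ BcIso.bcCongrIso hw G) (SplitBc264.splitBc w D)
  have hEP : E.P = D.P := rfl
  -- the lattice
  have hθ : Nonempty (D.M ≃+ ℤ) := by
    have h1 : Red.IsSplitTorusWith D.M (Red.bc (Red.geomPt x) (Red.bc v T)) :=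
      TorusAlgClosed.isSplitTorusWith_bc (Red.geomPt x) ⟨τ ≪≫ D.split⟩
    have h2 : Red.IsSplitTorusWith ℤ (Red.bc (Red.geomPt x) (Red.bc v T)) :=
      TorusAlgClosed.isSplitTorusWith_bc (Red.geomPt x)
        (TorusAlgClosed.isSplitTorusWith_bc v ⟨e₀⟩)
    exact Parab.TorRank156.nonempty_addEquiv h1 h2
  obtain ⟨θ⟩ := hθ
  -- the number of roots
  have hcard : Fintype.card D.idx = 2 := by
    have h1 := D.dim_fibre x
    rw [SplitBc264.dim_geomFibre_bc v G x, hx, hdim] at h1
    have h2 : Module.finrank ℤ D.M = 1 := by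
      rw [θ.toIntLinearEquiv.finrank_eq, Module.finrank_self]
    rw [h2] at h1
    have h3 : (3 : ℕ) = 1 + Fintype.card D.idx := by exact_mod_cast h1
    omega
  obtain ⟨Z, _, z, hz, hZ⟩ := hZ
  obtain ⟨ε⟩ := nonempty_equiv D.P D.pairing_eq hcard θ.toIntLinearEquiv
    (fun a => not_isUnit_root E θ.toIntLinearEquiv z hz hZ a)
  exact Groth.Agent.S3005.result (Spec R) dat _ _ ⟨D, ⟨ε⟩⟩ (isSplitOfType R)

end K918.RankOne
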